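import Groth.Prelude.Def_Hoch
import Groth.Prelude.Def_ComodTens

/-!
# G6a = FIN(H): the interface

Everything over ONE base ring `R` (Noetherian, the chart of the stack); the group is
`A = R ⊗ O(H)`, a commutative Hopf algebra, flat over `R`.  Cochains and cohomology are those of
the Prelude: `Hoch.cochain R A N n`, `Hoch.d`, `Hoch.H R A N n`, which are `R`-modules.
Captain: helper83.
-/

set_option autoImplicit false

universe u

open TensorProduct

noncomputable section

namespace Groth.Agent.ResProp.EF.K83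

section Defs

variable (R : Type u) [CommRing R] (A : Type u) [CommRing A] [HopfAlgebra R A]

/-- A comodule algebra: an `R`-algebra `D` with an action of the group `Spec A`. -/
structure CoAlg (D : Type u) [CommRing D] [Algebra R D] where
  ρ : D →ₐ[R] D ⊗[R] A
  coassoc : ∀ x : D, TensorProduct.assoc R D A A (ρ.toLinearMap.rTensor A (ρ x)) =
    (Coalgebra.comul (R := R) (A := A)).lTensor D (ρ x)
  counit : ∀ x : D, (Coalgebra.counit (R := R) (A := A)).lTensor D (ρ x) = x ⊗ₜ[R] (1 : R)

variable {R A}

/-- The underlying comodule of a comodule algebra. -/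
@[reducible] def CoAlg.comod {D : Type u} [CommRing D] [Algebra R D] (c : CoAlg R A D) :
    HopfRep.Comod R A D where
  coact := c.ρ.toLinearMap
  coassoc := LinearMap.ext fun x => by simpa using c.coassoc x
  counit_comp := LinearMap.ext fun x => by simpa using c.counit x

/-- `(D, A)`-modules (Hopf modules): `ρ (d • n) = ρ d • ρ n`. -/
structure IsHopfMod {D : Type u} [CommRing D] [Algebra R D] (c : CoAlg R A D)
    (N : Type u) [AddCommGroup N] [Module R N] [Module D N] [IsScalarTower R D N]
    (co : HopfRep.Comod R A N) : Prop where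
  smul : ∀ (d : D) (n : N), co.coact (d • n) =
    TensorProduct.map₂ (Algebra.lsmul R R N).toLinearMap (LinearMap.mul R A) (c.ρ d) (co.coact n)

/-- A localisation `D_s`, `s` semi-invariant, which is a faithfully flat Hopf-Galois extension of
a ring `B` (it follows that `B` is the ring of coinvariants of `D_s`). -/
structure GalLoc {D : Type u} [CommRing D] [Algebra R D] (c : CoAlg R A D) (s : D) :
    Type (u + 1) where
  Ds : Type u
  [crD : CommRing Ds]
  [aR : Algebra R Ds]
  [aD : Algebra D Ds]
  [tw : IsScalarTower R D Ds]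
  [loc : IsLocalization.Away s Ds]
  cs : CoAlg R A Ds
  compat : ∀ x : D, cs.ρ (algebraMap D Ds x) =
    Algebra.TensorProduct.map (IsScalarTower.toAlgHom R D Ds) (AlgHom.id R A) (c.ρ x)
  B : Type u
  [crB : CommRing B]
  [aRB : Algebra R B]
  [aBD : Algebra B Ds]
  [twB : IsScalarTower R B Ds]
  [ff : Module.FaithfullyFlat B Ds]
  can : Ds ⊗[B] Ds →ₗ[R] Ds ⊗[R] A
  can_tmul : ∀ a b : Ds, can (a ⊗ₜ[B] b) = (a ⊗ₜ[R] (1 : A)) * cs.ρ b
  can_bij : Function.Bijective can

attribute [instance] GalLoc.crD GalLoc.aR GalLoc.aD GalLoc.tw GalLoc.loc GalLoc.crB GalLoc.aRB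
  GalLoc.aBD GalLoc.twB GalLoc.ff

/-- **The FIN datum**: `s_0, …, s_r` semi-invariants of one weight `χ`, generating the unit ideal
of `D`; each `D_(s_i)` is faithfully flat Hopf-Galois over `B_i`, and `B_i` is generated over `R`
by the `s_j / s_i`. -/
structure FinDatum (R : Type u) [CommRing R] (A : Type u) [CommRing A] [HopfAlgebra R A]
    (D : Type u) [CommRing D] [Algebra R D] (c : CoAlg R A D) : Type (u + 1) where
  r : ℕ
  χ : A
  hχ : IsGroupLikeElem R χ
  s : Fin (r + 1) → D
  hs : ∀ i, c.ρ (s i) = s i ⊗ₜ[R] χ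
  span : Ideal.span (Set.range s) = ⊤
  noeth : IsNoetherianRing D
  loc : ∀ i, GalLoc c (s i)
  gen : ∀ i (b : (loc i).B), b ∈ Algebra.adjoin R {y : (loc i).B | ∃ j,
    algebraMap (loc i).B (loc i).Ds y * algebraMap D (loc i).Ds (s i) =
      algebraMap D (loc i).Ds (s j)}

/-- **FIN(H)** (output of G6a): vanishing above `r`, finiteness over `R`. -/
def FinOut (R : Type u) [CommRing R] (A : Type u) [CommRing A] [HopfAlgebra R A]
    (D : Type u) [CommRing D] [Algebra R D] (c : CoAlg R A D) (r : ℕ) : Prop :=
  ∀ (N : Type u) [AddCommGroup N] [Module R N] [Module D N] [IsScalarTower R D N]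
    [co : HopfRep.Comod R A N], IsHopfMod c N co →
    (∀ j, r < j → Subsingleton (Hoch.H R A N j)) ∧
    (Module.Finite D N → ∀ j, Module.Finite R (Hoch.H R A N j))

/-- The theorem of G6a. -/
def StmtFIN : Prop :=
  ∀ (R : Type u) [CommRing R] [IsNoetherianRing R] (A : Type u) [CommRing A] [HopfAlgebra R A]
    [Module.Flat R A] (D : Type u) [CommRing D] [Algebra R D] (c : CoAlg R A D)
    (F : FinDatum R A D c), FinOut R A D c F.r

end Defs

end Groth.Agent.ResProp.EF.K83
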