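import Groth.Agent.ResProp.EF.K83.FinDatum
import Groth.Agent.HopfRep.K187.HochMap
import Groth.Agent.Hoch.K915.DSq
import Mathlib.RingTheory.MvPolynomial.Homogeneous
import Mathlib.RingTheory.HopfAlgebra.GroupLike

/-!
# G6a: the statements of the nodes T1 - T5

`N(n)` is `N` with the coaction multiplied by `χ ^ (-n)`, i.e. the Prelude twist
`ComodTens.Comod.twist co ((antipode χ) ^ n) _`; with `ρ s = s ⊗ χ` the map `s : N(n) → N(n+1)` is
colinear, and the coinvariants of `N(n)` are the `y` with `ρ y = y ⊗ χ ^ n`.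
Cochain maps are `K187.HochMap.map R A f n`.  Statements only.
-/

set_option autoImplicit false

universe u

open TensorProduct

noncomputable section

namespace Groth.Agent.ResProp.EF.K83

section Nodes

variable {R : Type u} [CommRing R] {A : Type u} [CommRing A] [HopfAlgebra R A]
  {D : Type u} [CommRing D] [Algebra R D]

/-- the coaction of `N(n)`: `ρ(v) (1 ⊗ χ^(-n))` -/
@[reducible] def twc {N : Type u} [AddCommGroup N] [Module R N] (co : HopfRep.Comod R A N)
    {χ : A} (hχ : IsGroupLikeElem R χ) (n : ℕ) : HopfRep.Comod R A N :=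
  ComodTens.Comod.twist co ((HopfAlgebra.antipode R χ) ^ n) (hχ.antipode.pow (n := n))

/-- multiplication by `x ∈ D` as an `R`-linear map -/
abbrev mulBy {N : Type u} [AddCommGroup N] [Module R N] [Module D N] [IsScalarTower R D N]
    (x : D) : N →ₗ[R] N := Algebra.lsmul R R N x

/-- A localisation `f : N → N_s` as Hopf module over `D_s`. -/
structure HopfLoc {c : CoAlg R A D} {s : D} (g : GalLoc c s)
    (N : Type u) [AddCommGroup N] [Module R N] [Module D N] [IsScalarTower R D N]
    (co : HopfRep.Comod R A N) : Type (u + 1) where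
  Ns : Type u
  [ag : AddCommGroup Ns]
  [mR : Module R Ns]
  [mD : Module D Ns]
  [t1 : IsScalarTower R D Ns]
  [mDs : Module g.Ds Ns]
  [t2 : IsScalarTower R g.Ds Ns]
  [t3 : IsScalarTower D g.Ds Ns]
  f : N →ₗ[D] Ns
  [loc : IsLocalizedModule (Submonoid.powers s) f]
  cos : HopfRep.Comod R A Ns
  hopf : IsHopfMod g.cs Ns cos
  colin : ∀ n, cos.coact (f n) = (f.restrictScalars R).rTensor A (co.coact n)

attribute [instance] HopfLoc.ag HopfLoc.mR HopfLoc.mD HopfLoc.t1 HopfLoc.mDs HopfLoc.t2 HopfLoc.t3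
  HopfLoc.loc

end Nodes

section Statements

/-- **T1** (849): Hopf modules over a faithfully flat Galois extension are acyclic. -/
def StmtT1 : Prop :=
  ∀ (R : Type u) [CommRing R] (A : Type u) [CommRing A] [HopfAlgebra R A] [Module.Flat R A]
    (D : Type u) [CommRing D] [Algebra R D] (c : CoAlg R A D) (s : D) (g : GalLoc c s)
    (M : Type u) [AddCommGroup M] [Module R M] [Module g.Ds M] [IsScalarTower R g.Ds M]
    [co : HopfRep.Comod R A M], IsHopfMod g.cs M co →
    ∀ j, Hoch.cocycles R A M (j + 1) ≤ Hoch.coboundaries R A M (j + 1)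

/-- **T2** (761): coinvariants of a finite Hopf module over a Galois extension are finite over `B`. -/
def StmtT2 : Prop :=
  ∀ (R : Type u) [CommRing R] (A : Type u) [CommRing A] [HopfAlgebra R A] [Module.Flat R A]
    (D : Type u) [CommRing D] [Algebra R D] (c : CoAlg R A D) (s : D) (g : GalLoc c s)
    (M : Type u) [AddCommGroup M] [Module R M] [Module g.Ds M] [IsScalarTower R g.Ds M]
    [co : HopfRep.Comod R A M], IsHopfMod g.cs M co → Module.Finite g.Ds M →
    ∃ Z : Finset M, (∀ z ∈ Z, co.coact z = z ⊗ₜ[R] (1 : A)) ∧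
      ∀ m : M, co.coact m = m ⊗ₜ[R] (1 : A) →
        m ∈ Submodule.span (algebraMap g.B g.Ds).range (Z : Set M)

/-- **T3** (936, 805): existence of `N_s`. -/
def StmtT3 : Prop :=
  ∀ (R : Type u) [CommRing R] (A : Type u) [CommRing A] [HopfAlgebra R A] [Module.Flat R A]
    (D : Type u) [CommRing D] [Algebra R D] (c : CoAlg R A D) (s : D) (χ : A)
    (_ : IsGroupLikeElem R χ) (_ : c.ρ s = s ⊗ₜ[R] χ) (g : GalLoc c s)
    (N : Type u) [AddCommGroup N] [Module R N] [Module D N] [IsScalarTower R D N]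
    (co : HopfRep.Comod R A N), IsHopfMod c N co → Nonempty (HopfLoc g N co)

/-- **T3a** (936, 805): a cochain of `N(m)` which becomes a coboundary in `N_s(m)` becomes one
after multiplication with a power of `s`. -/
def StmtT3a : Prop :=
  ∀ (R : Type u) [CommRing R] (A : Type u) [CommRing A] [HopfAlgebra R A] [Module.Flat R A]
    (D : Type u) [CommRing D] [Algebra R D] (c : CoAlg R A D) (s : D) (χ : A)
    (hχ : IsGroupLikeElem R χ) (_ : c.ρ s = s ⊗ₜ[R] χ) (g : GalLoc c s)
    (N : Type u) [AddCommGroup N] [Module R N] [Module D N] [IsScalarTower R D N]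
    (co : HopfRep.Comod R A N) (_ : IsHopfMod c N co) (L : HopfLoc g N co) (m j : ℕ)
    (z : Hoch.cochain R A N (j + 1)),
    K187.HochMap.map R A (L.f.restrictScalars R) (j + 1) z ∈
      @Hoch.coboundaries R _ A _ _ L.Ns _ _ (twc L.cos hχ m) (j + 1) →
    ∃ k : ℕ, K187.HochMap.map R A (mulBy (s ^ k)) (j + 1) z ∈
      @Hoch.coboundaries R _ A _ _ N _ _ (twc co hχ (m + k)) (j + 1)

/-- **T3b** (936, 805): coinvariants of `N_s` come from semi-invariants of `N`. -/
def StmtT3b : Prop :=
  ∀ (R : Type u) [CommRing R] (A : Type u) [CommRing A] [HopfAlgebra R A] [Module.Flat R A]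
    (D : Type u) [CommRing D] [Algebra R D] (c : CoAlg R A D) (s : D) (χ : A)
    (_ : IsGroupLikeElem R χ) (_ : c.ρ s = s ⊗ₜ[R] χ) (g : GalLoc c s)
    (N : Type u) [AddCommGroup N] [Module R N] [Module D N] [IsScalarTower R D N]
    (co : HopfRep.Comod R A N) (_ : IsHopfMod c N co) (L : HopfLoc g N co)
    (z : L.Ns), L.cos.coact z = z ⊗ₜ[R] (1 : A) →
    ∃ (b : ℕ) (y : N), L.f y = s ^ b • z ∧ co.coact y = y ⊗ₜ[R] (χ ^ b)

/-- **Ac** = T1 + T3 + T3a (936, 805): for `N(m)` every class of positive degree is killed by a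
power of each `s_i`. -/
def StmtAc : Prop :=
  ∀ (R : Type u) [CommRing R] (A : Type u) [CommRing A] [HopfAlgebra R A] [Module.Flat R A]
    (D : Type u) [CommRing D] [Algebra R D] (c : CoAlg R A D) (F : FinDatum R A D c)
    (N : Type u) [AddCommGroup N] [Module R N] [Module D N] [IsScalarTower R D N]
    (co : HopfRep.Comod R A N) (_ : IsHopfMod c N co) (m j : ℕ) (i : Fin (F.r + 1))
    (z : Hoch.cochain R A N (j + 1)),
    z ∈ @Hoch.cocycles R _ A _ _ N _ _ (twc co F.hχ m) (j + 1) →
    ∃ k : ℕ, K187.HochMap.map R A (mulBy (F.s i ^ k)) (j + 1) z ∈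
      @Hoch.coboundaries R _ A _ _ N _ _ (twc co F.hχ (m + k)) (j + 1)

/-- **T4** = T2 + T3 + T3b + `K860.T4` (860): finitely many semi-invariants. -/
def StmtT4 : Prop :=
  ∀ (R : Type u) [CommRing R] (A : Type u) [CommRing A] [HopfAlgebra R A] [Module.Flat R A]
    (D : Type u) [CommRing D] [Algebra R D] (c : CoAlg R A D) (F : FinDatum R A D c)
    (N : Type u) [AddCommGroup N] [Module R N] [Module D N] [IsScalarTower R D N]
    (co : HopfRep.Comod R A N) (_ : IsHopfMod c N co), Module.Finite D N →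
    ∃ (t : ℕ) (w : Fin t → ℕ) (y : Fin t → N), (∀ l, co.coact (y l) = y l ⊗ₜ[R] (F.χ ^ (w l))) ∧
      ∀ (i : Fin (F.r + 1)) (m : ℕ) (y' : N), co.coact y' = y' ⊗ₜ[R] (F.χ ^ m) →
        ∃ (k : ℕ) (d : Fin t → ℕ) (P : Fin t → MvPolynomial (Fin (F.r + 1)) R),
          (∀ l, d l + w l = m + k) ∧ (∀ l, (P l).IsHomogeneous (d l)) ∧
          F.s i ^ k • y' = ∑ l, MvPolynomial.aeval F.s (P l) • y l

end Statements

end Groth.Agent.ResProp.EF.K83
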