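import Groth.Agent.ResProp.EF.K446.DevF
import Groth.Agent.ResProp.EF.K936.Stmts

/-!
# G6a, vanishing for all Hopf modules: `H^j(A, N) = 0` for `j > r`
-/

set_option autoImplicit false
set_option linter.unusedSectionVars false

universe u

open TensorProduct

noncomputable section

namespace Groth.Agent.ResProp.EF.K83

open K446 K416 K187.HochMap

section General

variable {R : Type u} [CommRing R] {A : Type u} [CommRing A] [HopfAlgebra R A]

theorem comod_ext {N : Type u} [AddCommGroup N] [Module R N] {co co' : HopfRep.Comod R A N}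
    (h : co.coact = co'.coact) : co = co' := by
  cases co; cases co'; cases h; rfl

theorem twist_one_eq {N : Type u} [AddCommGroup N] [Module R N] (co : HopfRep.Comod R A N) {g : A}
    (hg : IsGroupLikeElem R g) (h1 : g = 1) : ComodTens.Comod.twist co g hg = co := by
  subst h1
  apply comod_ext
  refine LinearMap.ext fun v => ?_
  change (LinearMap.mulRight R (1 : A)).lTensor N (co.coact v) = co.coact v
  have : LinearMap.mulRight R (1 : A) = LinearMap.id := by ext; simp
  rw [this, LinearMap.lTensor_id, LinearMap.id_apply]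

theorem twc_zero {N : Type u} [AddCommGroup N] [Module R N] (co : HopfRep.Comod R A N) {χ : A}
    (hχ : IsGroupLikeElem R χ) : twc co hχ 0 = co := twist_one_eq co _ (pow_zero _)

theorem subsingleton_cochain (N : Type u) [AddCommGroup N] [Module R N] [Subsingleton N] (n : ℕ) :
    Subsingleton (Hoch.cochain R A N n : Type u) := by
  induction n with
  | zero => exact (inferInstance : Subsingleton N)
  | succ n ih =>
    refine ⟨fun x y => ?_⟩
    have h : ∀ x : (Hoch.cochain R A N n : Type u) ⊗[R] A, x = 0 := by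
      intro x
      induction x using TensorProduct.induction_on with
      | zero => rfl
      | add x y hx hy => rw [hx, hy, add_zero]
      | tmul a b => rw [Subsingleton.elim a 0, TensorProduct.zero_tmul]
    exact (h x).trans (h y).symm

variable [Module.Flat R A]
variable {X Y Z : Type u} [AddCommGroup X] [Module R X] [AddCommGroup Y] [Module R Y]
  [AddCommGroup Z] [Module R Z] [HopfRep.Comod R A X] [HopfRep.Comod R A Y] [HopfRep.Comod R A Z]
  {f : X →ₗ[R] Y} {g : Y →ₗ[R] Z}

theorem ses_mid (S : SES R A f g) (j : ℕ) (hX : ∀ v : Hoch.H R A X j, v = 0)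
    (hZ : ∀ v : Hoch.H R A Z j, v = 0) : ∀ v : Hoch.H R A Y j, v = 0 := by
  intro v
  obtain ⟨w, rfl⟩ := (S.exact_left j v).1 (hZ _)
  rw [hX w, map_zero]

theorem ses_inj (S : SES R A f g) (j : ℕ) (hZ : ∀ v : Hoch.H R A Z j, v = 0)
    (z : Hoch.cochain R A X (j + 1)) (hz : z ∈ Hoch.cocycles R A X (j + 1))
    (hm : map R A f (j + 1) z ∈ Hoch.coboundaries R A Y (j + 1)) :
    z ∈ Hoch.coboundaries R A X (j + 1) := by
  have h1 : Hmap R A S.hf (j + 1) (Hoch.H.mk R A X (j + 1) ⟨z, hz⟩) = 0 := by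
    rw [Hmap_mk, mk_eq_zero_iff]
    exact hm
  obtain ⟨w, hw⟩ := (S.exact_right j _).1 h1
  rw [hZ w, map_zero] at hw
  exact (mk_eq_zero_iff R A (j + 1) ⟨z, hz⟩).1 hw.symm

theorem ses_cocyc (S : SES R A f g) (j : ℕ) (z : Hoch.cochain R A X j)
    (hz : z ∈ Hoch.cocycles R A X j) : map R A f j z ∈ Hoch.cocycles R A Y j :=
  map_mem_cocycles R A S.hf j hz

end General

section Fin

variable {R : Type u} [CommRing R] {A : Type u} [CommRing A] [HopfAlgebra R A] [Module.Flat R A]
variable {D : Type u} [CommRing D] [Algebra R D] {c : CoAlg R A D}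

/-- `H^j(N, co) = 0` -/
def Acy {N : Type u} [AddCommGroup N] [Module R N] (co : HopfRep.Comod R A N) (j : ℕ) : Prop :=
  ∀ v : @Hoch.H R _ A _ _ N _ _ co j, v = 0

theorem Acy.of_sub {N : Type u} [AddCommGroup N] [Module R N] [Module D N] [IsScalarTower R D N]
    {co : HopfRep.Comod R A N} (W : Submodule D N)
    (hW : @HopfRep.IsSubcomod R A _ _ _ _ N _ _ co (W.restrictScalars R)) (j : ℕ)
    (h1 : Acy (subC co W hW) j) (h2 : Acy (quotC co W hW) j) : Acy co j := by
  have S := ses_sub (co := co) W hW 1 IsGroupLikeElem.one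
  rw [← twist_one_eq (subC co W hW) IsGroupLikeElem.one rfl] at h1
  rw [← twist_one_eq (quotC co W hW) IsGroupLikeElem.one rfl] at h2
  rw [← twist_one_eq co IsGroupLikeElem.one rfl]
  exact @ses_mid R _ A _ _ _ W N (N ⧸ W) _ _ _ _ _ _
    (ComodTens.Comod.twist (subC co W hW) 1 IsGroupLikeElem.one)
    (ComodTens.Comod.twist co 1 IsGroupLikeElem.one)
    (ComodTens.Comod.twist (quotC co W hW) 1 IsGroupLikeElem.one) _ _ S j h1 h2

variable (F : FinDatum R A D c)

theorem inj_pow {N : Type u} [AddCommGroup N] [Module R N] [Module D N] [IsScalarTower R D N]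
    {co : HopfRep.Comod R A N} (hN : IsHopfMod c N co) (i : Fin (F.r + 1))
    (hinj : Function.Injective fun n : N => F.s i • n) (j : ℕ)
    (hQ : ∀ m, Acy (twc (quotC co (imS N (F.s i)) (sub_im hN (F.hs i))) F.hχ m) j) (k : ℕ) :
    ∀ (m : ℕ) (z : Hoch.cochain R A N (j + 1)),
      z ∈ @Hoch.cocycles R _ A _ _ N _ _ (twc co F.hχ m) (j + 1) →
      map R A (mulBy (F.s i ^ k)) (j + 1) z ∈
        @Hoch.coboundaries R _ A _ _ N _ _ (twc co F.hχ (m + k)) (j + 1) →
      z ∈ @Hoch.coboundaries R _ A _ _ N _ _ (twc co F.hχ m) (j + 1) := by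
  induction k with
  | zero =>
    intro m z hz h
    have e : (mulBy (F.s i ^ 0) : N →ₗ[R] N) = LinearMap.id := by
      rw [pow_zero]; exact LinearMap.ext fun v => one_smul D v
    rw [e, map_id] at h
    exact h
  | succ k ih =>
    intro m z hz h
    have hgg : (HopfAlgebra.antipode R F.χ) ^ m = F.χ * (HopfAlgebra.antipode R F.χ) ^ (m + 1) := by
      rw [pow_succ, mul_comm ((HopfAlgebra.antipode R F.χ) ^ m), ← mul_assoc,
        F.hχ.mul_antipode_cancel, one_mul]
    have S := ses_smul hN (F.hs i) hinj ((HopfAlgebra.antipode R F.χ) ^ m)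
      ((HopfAlgebra.antipode R F.χ) ^ (m + 1)) (F.hχ.antipode.pow) (F.hχ.antipode.pow) hgg
    refine @ses_inj R _ A _ _ _ N N _ _ _ _ _ _ _ (twc co F.hχ m) (twc co F.hχ (m + 1))
      (twc (quotC co (imS N (F.s i)) (sub_im hN (F.hs i))) F.hχ (m + 1)) _ _ S j (hQ (m + 1)) z hz ?_
    refine ih (m + 1) _ ?_ ?_
    · exact @ses_cocyc R _ A _ _ _ N N _ _ _ _ _ _ _ (twc co F.hχ m) (twc co F.hχ (m + 1))
        (twc (quotC co (imS N (F.s i)) (sub_im hN (F.hs i))) F.hχ (m + 1)) _ _ S (j + 1) z hz
    · have e : map R A (mulBy (F.s i ^ (k + 1)) : N →ₗ[R] N) (j + 1) z =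
          map R A (mulBy (F.s i ^ k)) (j + 1)
            (map R A ((LinearMap.lsmul D N (F.s i)).restrictScalars R) (j + 1) z) := by
        rw [← LinearMap.comp_apply, ← map_comp]
        congr 2
        refine LinearMap.ext fun v => ?_
        change (F.s i ^ (k + 1)) • v = F.s i ^ k • F.s i • v
        rw [pow_succ, mul_smul]
      rw [← e, show m + 1 + k = m + (k + 1) by omega]
      exact h

/-- `N` is killed (elementwise) by powers of the `s_i`, `k ≤ i`. -/
def Cls (k : ℕ) (N : Type u) [AddCommGroup N] [Module D N] : Prop :=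
  ∀ i : Fin (F.r + 1), k ≤ (i : ℕ) → ∀ v : N, ∃ m : ℕ, F.s i ^ m • v = 0

theorem Cls.sub {k : ℕ} {N : Type u} [AddCommGroup N] [Module D N] (h : Cls F k N)
    (W : Submodule D N) : Cls F k W := fun i hi v => by
  obtain ⟨m, hm⟩ := h i hi (v : N)
  exact ⟨m, Subtype.ext hm⟩

theorem Cls.quot {k : ℕ} {N : Type u} [AddCommGroup N] [Module D N] (h : Cls F k N)
    (W : Submodule D N) : Cls F k (N ⧸ W) := fun i hi v => by
  obtain ⟨v, rfl⟩ := W.mkQ_surjective v
  obtain ⟨m, hm⟩ := h i hi v
  exact ⟨m, by rw [← map_smul, hm, map_zero]⟩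

theorem Cls.of_succ {k : ℕ} {N : Type u} [AddCommGroup N] [Module D N] (h : Cls F (k + 1) N)
    (hk : k < F.r + 1) (h0 : ∀ v : N, ∃ m : ℕ, F.s ⟨k, hk⟩ ^ m • v = 0) : Cls F k N := by
  intro i hi v
  by_cases e : k = (i : ℕ)
  · have : i = ⟨k, hk⟩ := Fin.ext e.symm
    rw [this]; exact h0 v
  · exact h i (by omega) v

theorem Cls.zero {N : Type u} [AddCommGroup N] [Module D N] (h : Cls F 0 N) : Subsingleton N := by
  refine ⟨fun a b => ?_⟩
  have key : ∀ v : N, v = 0 := by
    intro v
    choose k hk using fun i => h i (Nat.zero_le _) v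
    have h1 : ∀ i, F.s i ^ (∑ j, k j) • v = 0 := fun i => by
      have hle : k i ≤ ∑ j, k j := Finset.single_le_sum (fun _ _ => Nat.zero_le _) (Finset.mem_univ i)
      rw [← Nat.sub_add_cancel hle, pow_add, mul_smul, hk i, smul_zero]
    have h2 : (1 : D) ∈ Ideal.span ((fun a => a ^ (∑ j, k j)) '' Set.range F.s) := by
      rw [Ideal.span_pow_eq_top _ F.span]
      trivial
    have h3 : ∀ d ∈ Ideal.span ((fun a => a ^ (∑ j, k j)) '' Set.range F.s), d • v = 0 := by
      intro d hd
      induction hd using Submodule.span_induction with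
      | mem x hx => obtain ⟨_, ⟨i, rfl⟩, rfl⟩ := hx; exact h1 i
      | zero => exact zero_smul _ _
      | add x y _ _ hx hy => rw [add_smul, hx, hy, add_zero]
      | smul a x _ hx => rw [smul_eq_mul, mul_smul, hx, smul_zero]
    have := h3 1 h2
    rwa [one_smul] at this
  rw [key a, key b]

theorem acy_of_subsingleton {N : Type u} [AddCommGroup N] [Module R N] [Subsingleton N]
    (co : HopfRep.Comod R A N) (j : ℕ) : Acy co j := by
  intro v
  obtain ⟨z, rfl⟩ := @mk_surj R A _ _ _ N _ _ co j v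
  have := subsingleton_cochain (R := R) (A := A) N j
  have : z = 0 := Subtype.ext (Subsingleton.elim _ _)
  rw [this, map_zero]

theorem van_aux (k : ℕ) : ∀ (N : Type u) [AddCommGroup N] [Module R N] [Module D N]
    [IsScalarTower R D N] (co : HopfRep.Comod R A N), IsHopfMod c N co → Cls F k N →
    ∀ j, k ≤ j → Acy co j := by
  induction k with
  | zero =>
    intro N _ _ _ _ co hN hc j _
    have := Cls.zero F hc
    exact acy_of_subsingleton co j
  | succ k ih =>
    intro N _ _ _ _ co hN hc j hj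
    by_cases hk : k < F.r + 1
    · have hu : IsUnit F.χ := F.hχ.isUnit
      let s := F.s ⟨k, hk⟩
      have hT := sub_tor hN (F.hs ⟨k, hk⟩) hu
      refine Acy.of_sub (torS N s) hT j ?_ ?_
      · refine ih _ _ (isHopfMod_sub hN _ hT) (Cls.of_succ F (Cls.sub F hc _) hk fun v => ?_) j
          (by omega)
        obtain ⟨m, hm⟩ := mem_torS.1 v.2
        exact ⟨m, Subtype.ext hm⟩
      · -- the quotient, on which `s` is injective
        have hN' := isHopfMod_quot hN (torS N s) hT
        have hinj : Function.Injective fun x : N ⧸ torS N s => s • x := smul_injective_quot_torS s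
        have hcN' : Cls F (k + 1) (N ⧸ torS N s) := Cls.quot F hc _
        obtain ⟨j, rfl⟩ : ∃ j', j = j' + 1 := ⟨j - 1, by omega⟩
        have hQ : ∀ m, Acy (twc (quotC (quotC co (torS N s) hT) (imS (N ⧸ torS N s) s)
            (sub_im hN' (F.hs ⟨k, hk⟩))) F.hχ m) j := by
          intro m
          refine ih _ _ (IsHopfMod.twist (isHopfMod_quot hN' _ _) _ _) ?_ j (by omega)
          refine Cls.of_succ F (Cls.quot F hcN' _) hk fun v => ?_
          obtain ⟨v, rfl⟩ := (imS (N ⧸ torS N s) s).mkQ_surjective v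
          refine ⟨1, ?_⟩
          rw [pow_one, ← map_smul]
          exact (Submodule.Quotient.mk_eq_zero _).2 (mem_imS.2 ⟨v, rfl⟩)
        intro v
        obtain ⟨z, rfl⟩ := @mk_surj R A _ _ _ _ _ _ (quotC co (torS N s) hT) (j + 1) v
        refine (@mk_eq_zero_iff R A _ _ _ _ _ _ (quotC co (torS N s) hT) (j + 1) z).2 ?_
        obtain ⟨z, hz⟩ := z
        change z ∈ _
        rw [← twc_zero (quotC co (torS N s) hT) F.hχ] at hz ⊢
        obtain ⟨m, hm⟩ := K936.Stmts.stmtAc R A D c F (N ⧸ torS N s) (quotC co (torS N s) hT) hN' 0 j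
          ⟨k, hk⟩ z hz
        exact inj_pow F hN' ⟨k, hk⟩ hinj j hQ m 0 z hz hm
    · exact ih N co hN (fun i hi v => absurd i.2 (by omega)) j (by omega)

/-- **Vanishing above `r` for every Hopf module.** -/
theorem van {N : Type u} [AddCommGroup N] [Module R N] [Module D N] [IsScalarTower R D N]
    (co : HopfRep.Comod R A N) (hN : IsHopfMod c N co) (j : ℕ) (hj : F.r < j) :
    Subsingleton (@Hoch.H R _ A _ _ N _ _ co j) := by
  have h := van_aux F (F.r + 1) N co hN (fun i hi v => absurd i.2 (by omega)) j hj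
  exact ⟨fun a b => by rw [h a, h b]⟩

end Fin

end Groth.Agent.ResProp.EF.K83
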