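import Mathlib.Algebra.Homology.Embedding.CochainComplex
import Mathlib.Algebra.Homology.HomologySequenceLemmas
import Mathlib.Algebra.Homology.SingleHomology
import Mathlib.CategoryTheory.Abelian.SerreClass.Basic

/-! Dimension shifting for an exact functor from bounded complexes to complexes (for instance the
total cobar complex): if for all `j` the complex `F (H^j(K)[-j])` has `H^n` in a Serre class
`R n`, then so has `F K`. Applied with `R n = P` for `n ≤ b` and `R n = IsZero` for `n > b`. -/

set_option autoImplicit false

open CategoryTheory CategoryTheory.Limits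

namespace Groth.Agent.ResProp.EF.K83

universe v₁ v₂ u₁ u₂

variable {C : Type u₁} {D : Type u₂} [Category.{v₁} C] [Abelian C] [Category.{v₂} D] [Abelian D]

/-- Exactness of a functor on bounded complexes. -/
structure ExactOnBounded (F : CochainComplex C ℤ ⥤ CochainComplex D ℤ)
    [F.PreservesZeroMorphisms] : Prop where
  exact : ∀ S : ShortComplex (CochainComplex C ℤ), S.ShortExact → (S.map F).ShortExact
  quasiIso : ∀ {K L : CochainComplex C ℤ} (f : K ⟶ L) (a b : ℤ) [K.IsStrictlyGE a]
    [K.IsStrictlyLE b] [L.IsStrictlyGE a] [L.IsStrictlyLE b] [QuasiIso f], QuasiIso (F.map f)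

lemma isStrictlyGE_X₃ {S : ShortComplex (CochainComplex C ℤ)} (hS : S.ShortExact) (a : ℤ)
    [S.X₂.IsStrictlyGE a] : S.X₃.IsStrictlyGE a := by
  rw [CochainComplex.isStrictlyGE_iff]
  intro i hi
  have : Epi (S.g.f i) := by
    have := hS.epi_g
    infer_instance
  exact IsZero.of_epi (S.g.f i) (CochainComplex.isZero_of_isStrictlyGE _ a i hi)

lemma isStrictlyLE_X₃ {S : ShortComplex (CochainComplex C ℤ)} (hS : S.ShortExact) (a : ℤ)
    [S.X₂.IsStrictlyLE a] : S.X₃.IsStrictlyLE a := by
  rw [CochainComplex.isStrictlyLE_iff]
  intro i hi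
  have : Epi (S.g.f i) := by
    have := hS.epi_g
    infer_instance
  exact IsZero.of_epi (S.g.f i) (CochainComplex.isZero_of_isStrictlyLE _ a i hi)

lemma isStrictlyGE_X₁ {S : ShortComplex (CochainComplex C ℤ)} (hS : S.ShortExact) (a : ℤ)
    [S.X₂.IsStrictlyGE a] : S.X₁.IsStrictlyGE a := by
  rw [CochainComplex.isStrictlyGE_iff]
  intro i hi
  have : Mono (S.f.f i) := by
    have := hS.mono_f
    infer_instance
  exact IsZero.of_mono (S.f.f i) (CochainComplex.isZero_of_isStrictlyGE _ a i hi)

variable (F : CochainComplex C ℤ ⥤ CochainComplex D ℤ) [F.PreservesZeroMorphisms]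
  (R : ℤ → ObjectProperty D) [∀ n, (R n).IsSerreClass]

theorem hyper_aux (hF : ExactOnBounded F) (k : ℕ) : ∀ (a b : ℤ) (_ : b - a + 1 ≤ k)
      (K : CochainComplex C ℤ) [K.IsStrictlyGE a] [K.IsStrictlyLE b],
      (∀ j n : ℤ, R n ((F.obj ((CochainComplex.singleFunctor C j).obj (K.homology j))).homology n)) →
      ∀ n : ℤ, R n ((F.obj K).homology n) := by
  induction k with
  | zero =>
    intro a b hab K _ _ _ n
    have hK : IsZero K := by
      rw [IsZero.iff_id_eq_zero]
      ext i
      apply IsZero.eq_of_src
      by_cases h : i < a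
      · exact CochainComplex.isZero_of_isStrictlyGE _ a i h
      · exact CochainComplex.isZero_of_isStrictlyLE _ b i (by push_cast at hab; omega)
    have : IsZero ((F.obj K).homology n) := by
      have h1 : IsZero (F.obj K) := F.map_isZero hK
      exact (HomologicalComplex.homologyFunctor D _ n).map_isZero h1
    exact (R n).prop_of_isZero this
  | succ k ih =>
    intro a b hab K _ _ hK n
    by_cases hba : b < a
    · exact ih a b (by push_cast at hab ⊢; omega) K hK n
    have hS := K.shortComplexTruncLE_shortExact (b - 1)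
    have hFS := hF.exact _ hS
    let S := K.shortComplexTruncLE (b - 1)
    have : S.X₂.IsStrictlyGE a := inferInstanceAs (K.IsStrictlyGE a)
    have : S.X₂.IsStrictlyLE b := inferInstanceAs (K.IsStrictlyLE b)
    have h1 : S.X₁.IsStrictlyGE a := isStrictlyGE_X₁ hS a
    have h3 : S.X₃.IsStrictlyGE a := isStrictlyGE_X₃ hS a
    have h3' : S.X₃.IsStrictlyLE b := isStrictlyLE_X₃ hS b
    have h1' : S.X₁.IsStrictlyLE (b - 1) := inferInstanceAs ((K.truncLE (b - 1)).IsStrictlyLE (b - 1))
    refine (R n).prop_X₂_of_exact (hFS.homology_exact₂ n) ?_ ?_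
    · -- the truncation
      refine ih a (b - 1) (by push_cast at hab ⊢; omega) S.X₁ ?_ n
      intro j m
      by_cases hj : j ≤ b - 1
      · have := K.quasiIsoAt_ιTruncLE (b - 1) j hj
        have h2 : IsIso (HomologicalComplex.homologyMap (K.ιTruncLE (b - 1)) j) := by
          rwa [quasiIsoAt_iff_isIso_homologyMap] at this
        have e : S.X₁.homology j ≅ K.homology j :=
          @asIso _ _ _ _ (HomologicalComplex.homologyMap (K.ιTruncLE (b - 1)) j) h2
        exact (R m).prop_of_iso ((HomologicalComplex.homologyFunctor D _ m).mapIso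
          (F.mapIso ((CochainComplex.singleFunctor C j).mapIso e.symm))) (hK j m)
      · have hz : IsZero (S.X₁.homology j) :=
          CochainComplex.isZero_of_isLE S.X₁ (b - 1) j (by omega)
        exact (R m).prop_of_isZero ((HomologicalComplex.homologyFunctor D _ m).map_isZero
          (F.map_isZero ((CochainComplex.singleFunctor C j).map_isZero hz)))
    · -- the top cohomology
      let q := K.shortComplexTruncLEX₃ToTruncGE (b - 1) b (by omega)
      have : (K.truncGE b).IsStrictlyLE b := by
        rw [CochainComplex.isStrictlyLE_iff]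
        intro i hi
        exact (CochainComplex.isZero_of_isStrictlyLE K b i hi).of_iso
          (K.truncGEXIso b i hi)
      have : (K.truncGE b).IsStrictlyGE a := CochainComplex.isStrictlyGE_of_ge _ a b (by omega)
      have hq : QuasiIso (F.map q) := hF.quasiIso q a b
      obtain ⟨M, ⟨e⟩⟩ := (K.truncGE b).exists_iso_single b
      have e1 : (K.truncGE b).homology b ≅ M :=
        (HomologicalComplex.homologyFunctor C _ b).mapIso e ≪≫
          HomologicalComplex.singleObjHomologySelfIso _ b M
      have h2 : IsIso (HomologicalComplex.homologyMap (K.πTruncGE b) b) := by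
        have : QuasiIsoAt (K.πTruncGE b) b := inferInstance
        rwa [quasiIsoAt_iff_isIso_homologyMap] at this
      have e2 : K.homology b ≅ M :=
        (@asIso _ _ _ _ (HomologicalComplex.homologyMap (K.πTruncGE b) b) h2) ≪≫ e1
      have e3 : F.obj (K.truncGE b) ≅ F.obj ((CochainComplex.singleFunctor C b).obj (K.homology b)) :=
        F.mapIso (e ≪≫ (CochainComplex.singleFunctor C b).mapIso e2.symm)
      have h4 : IsIso (HomologicalComplex.homologyMap (F.map q) n) := by
        have : QuasiIsoAt (F.map q) n := inferInstance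
        rwa [quasiIsoAt_iff_isIso_homologyMap] at this
      have e4 : (F.obj S.X₃).homology n ≅ (F.obj (K.truncGE b)).homology n :=
        @asIso _ _ _ _ (HomologicalComplex.homologyMap (F.map q) n) h4
      exact (R n).prop_of_iso (e4 ≪≫ (HomologicalComplex.homologyFunctor D _ n).mapIso e3).symm (hK b n)

/-- **Dimension shifting.** -/
theorem hyper (hF : ExactOnBounded F) (a b : ℤ) (K : CochainComplex C ℤ) [K.IsStrictlyGE a]
    [K.IsStrictlyLE b]
    (hK : ∀ j n : ℤ, R n ((F.obj ((CochainComplex.singleFunctor C j).obj (K.homology j))).homology n))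
    (n : ℤ) : R n ((F.obj K).homology n) :=
  hyper_aux F R hF (b - a + 1).toNat a b (by omega) K hK n

instance isSerreClass_ite (P Q : ObjectProperty D) [P.IsSerreClass] [Q.IsSerreClass] (p : Prop)
    [Decidable p] : (if p then P else Q).IsSerreClass := by
  split_ifs <;> infer_instance

/-- The form used for `H^n(E, -)`: finiteness and vanishing at the same time. -/
theorem hyper_bound (P : ObjectProperty D) [P.IsSerreClass] (hF : ExactOnBounded F) (a b : ℤ)
    (K : CochainComplex C ℤ) [K.IsStrictlyGE a] [K.IsStrictlyLE b] (b' d : ℤ)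
    (hb' : ∀ j, b' < j → IsZero (K.homology j))
    (hfin : ∀ j n : ℤ, P ((F.obj ((CochainComplex.singleFunctor C j).obj (K.homology j))).homology n))
    (hvan : ∀ j n : ℤ, j + d < n →
      IsZero ((F.obj ((CochainComplex.singleFunctor C j).obj (K.homology j))).homology n)) :
    (∀ n, P ((F.obj K).homology n)) ∧ ∀ n, b' + d < n → IsZero ((F.obj K).homology n) := by
  refine ⟨fun n => hyper F (fun _ => P) hF a b K hfin n, fun n hn => ?_⟩
  classical
  refine hyper F (fun n => if b' + d < n then IsZero else ⊤) hF a b K ?_ n |> fun h => by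
    simpa [hn] using h
  intro j m
  by_cases hm : b' + d < m
  · simp only [hm, if_true]
    by_cases hj : b' < j
    · exact (HomologicalComplex.homologyFunctor D _ m).map_isZero
        (F.map_isZero ((CochainComplex.singleFunctor C j).map_isZero (hb' j hj)))
    · exact hvan j m (by omega)
  · simp only [hm, if_false]
    trivial

end Groth.Agent.ResProp.EF.K83
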