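import Groth.Agent.ResProp.EF.K742.GO
import Groth.Agent.ResProp.EF.K494.SeamC

/-!
# Seam `Arch.SObj` ⇒ coalgebras of `K742.GO` over `Comod A`

* `ksG` : the compatible maps `k → A⟨n⟩` of a `GRF`;
* `ce X : (GO ksG E.O).Coalgebra`, underlying object `K494.Seam.cm X`; `ceHom f`;
* `ceCx K d dd : CochainComplex (GO ksG E.O).Coalgebra ℤ`, `forget (ceCx) = cmCx`.
-/

set_option autoImplicit false
set_option linter.dupNamespace false
set_option linter.style.haveILetI false
set_option linter.unusedSectionVars false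

open CategoryTheory CategoryTheory.Limits Opposite TensorProduct HomologicalComplex

noncomputable section

namespace Groth.Agent.ResProp.EF.K83.CE

open K784.BC K784.PM K741.RP EF56 K294 Grp Arch K940 Groth.Agent.ResProp.EF.K742 K494.Seam

universe u

variable {k : Type u} [CommRing k] {A : NFᵒᵖ ⥤ CommRingCat.{u}} [GRF k A]

/-- the compatible maps `k → A⟨n⟩` -/
@[reducible] def ksG (k : Type u) [CommRing k] (A : NFᵒᵖ ⥤ CommRingCat.{u}) [GRF k A] : KS k A where
  κ X := algebraMap k (A.obj (op X.unop))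
  nat f c := GRF.map_k f.unop c

section level

variable {E : Gp k} (M : PM.{u} A) (e : ECo E M)

/-- the coaction at a level, `A⟨a⟩`-linear -/
def coT (a : NF) : M.obj a →ₗ[A.obj (op a)] TM ((ksG k A).κ (op a)) (M.obj a) E.O where
  toFun m := (e.co a).coact m
  map_add' := map_add (e.co a).coact
  map_smul' r m := by
    change (e.co a).coact (r • m) = _
    rw [e.lin]
    generalize (e.co a).coact m = z
    induction z using TensorProduct.induction_on with
    | zero => rw [map_zero]; exact (smul_zero (A := TM ((ksG k A).κ (op a)) (M.obj a) E.O) r).symm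
    | add x y hx hy =>
      rw [map_add, hx, hy]
      exact (smul_add (A := TM ((ksG k A).κ (op a)) (M.obj a) E.O) r x y).symm
    | tmul n b => exact (TM.smul_tm ((ksG k A).κ (op a)) r n b).symm

theorem coT_apply (a : NF) (m : M.obj a) : coT M e a m = (e.co a).coact m := rfl

theorem epsL_eq (a : NF) (z : M.obj a ⊗[k] E.O) :
    epsL E.O ((ksG k A).κ (op a)) (M.obj a) z =
      TensorProduct.rid k (M.obj a) ((Coalgebra.counit (R := k) (A := E.O)).lTensor (M.obj a) z) := by
  induction z using TensorProduct.induction_on with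
  | zero => rw [map_zero, map_zero]; exact map_zero (epsL E.O ((ksG k A).κ (op a)) (M.obj a))
  | add x y hx hy =>
    rw [map_add, map_add, ← hx, ← hy]
    exact map_add (epsL E.O ((ksG k A).κ (op a)) (M.obj a)) x y
  | tmul m o =>
    rw [LinearMap.lTensor_tmul, TensorProduct.rid_tmul]
    exact epsL_tm E.O ((ksG k A).κ (op a)) m o

theorem ins_eq (a : NF) (m : M.obj a) (w : E.O ⊗[k] E.O) :
    ins E.O ((ksG k A).κ (op a)) m w =
      ((TensorProduct.assoc k (M.obj a) E.O E.O).symm (m ⊗ₜ[k] w) : (M.obj a ⊗[k] E.O) ⊗[k] E.O) := by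
  induction w using TensorProduct.induction_on with
  | zero =>
    have h1 := map_zero (TensorProduct.assoc k (M.obj a) E.O E.O).symm
    rw [← TensorProduct.tmul_zero (R := k) (E.O ⊗[k] E.O) m] at h1
    exact (map_zero (ins E.O ((ksG k A).κ (op a)) m)).trans h1.symm
  | add x y hx hy =>
    have h1 := map_add (TensorProduct.assoc k (M.obj a) E.O E.O).symm (m ⊗ₜ[k] x) (m ⊗ₜ[k] y)
    rw [← TensorProduct.tmul_add] at h1
    exact (map_add (ins E.O ((ksG k A).κ (op a)) m) x y).trans ((congrArg₂ (· + ·) hx hy).trans h1.symm)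
  | tmul b c => rfl

theorem delL_eq (a : NF) (z : M.obj a ⊗[k] E.O) :
    delL E.O ((ksG k A).κ (op a)) (M.obj a) z =
      ((TensorProduct.assoc k (M.obj a) E.O E.O).symm
        ((Coalgebra.comul (R := k) (A := E.O)).lTensor (M.obj a) z) : (M.obj a ⊗[k] E.O) ⊗[k] E.O) := by
  induction z using TensorProduct.induction_on with
  | zero =>
    have h1 := map_zero ((TensorProduct.assoc k (M.obj a) E.O E.O).symm.toLinearMap ∘ₗ
      (Coalgebra.comul (R := k) (A := E.O)).lTensor (M.obj a))
    exact (map_zero (delL E.O ((ksG k A).κ (op a)) (M.obj a))).trans h1.symm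
  | add x y hx hy =>
    have h1 := map_add ((TensorProduct.assoc k (M.obj a) E.O E.O).symm.toLinearMap ∘ₗ
      (Coalgebra.comul (R := k) (A := E.O)).lTensor (M.obj a)) x y
    exact (map_add (delL E.O ((ksG k A).κ (op a)) (M.obj a)) x y).trans
      ((congrArg₂ (· + ·) hx hy).trans h1.symm)
  | tmul m o =>
    exact (delL_tm E.O ((ksG k A).κ (op a)) m o).trans (ins_eq M a m _)

theorem map_coT_eq (a : NF) (z : M.obj a ⊗[k] E.O) :
    TM.map ((ksG k A).κ (op a)) (coT M e a) (LinearMap.id : E.O →ₗ[k] E.O) z =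
      ((e.co a).coact.rTensor E.O z : (M.obj a ⊗[k] E.O) ⊗[k] E.O) := by
  induction z using TensorProduct.induction_on with
  | zero =>
    exact (map_zero (TM.map ((ksG k A).κ (op a)) (coT M e a) (LinearMap.id : E.O →ₗ[k] E.O))).trans
      (map_zero ((e.co a).coact.rTensor E.O)).symm
  | add x y hx hy =>
    exact (map_add (TM.map ((ksG k A).κ (op a)) (coT M e a) (LinearMap.id : E.O →ₗ[k] E.O)) x y).trans
      ((congrArg₂ (· + ·) hx hy).trans (map_add ((e.co a).coact.rTensor E.O) x y).symm)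
  | tmul m o =>
    exact TM.map_tm ((ksG k A).κ (op a)) (coT M e a) (LinearMap.id : E.O →ₗ[k] E.O) m o

theorem eps_coT (a : NF) (m : M.obj a) :
    epsL E.O ((ksG k A).κ (op a)) (M.obj a) (coT M e a m) = m := by
  have h := congr($((e.co a).counit_comp) m)
  change (Coalgebra.counit (R := k) (A := E.O)).lTensor (M.obj a) ((e.co a).coact m) = m ⊗ₜ[k] (1 : k) at h
  refine (epsL_eq M a ((e.co a).coact m)).trans ?_
  rw [h, TensorProduct.rid_tmul, one_smul]

theorem del_coT (a : NF) (m : M.obj a) :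
    delL E.O ((ksG k A).κ (op a)) (M.obj a) (coT M e a m) =
      TM.map ((ksG k A).κ (op a)) (coT M e a) (LinearMap.id : E.O →ₗ[k] E.O) (coT M e a m) := by
  have h := congr($((e.co a).coassoc) m)
  change TensorProduct.assoc k (M.obj a) E.O E.O ((e.co a).coact.rTensor E.O ((e.co a).coact m)) =
    (Coalgebra.comul (R := k) (A := E.O)).lTensor (M.obj a) ((e.co a).coact m) at h
  refine (delL_eq M a ((e.co a).coact m)).trans ?_
  refine Eq.trans ?_ (map_coT_eq M e a ((e.co a).coact m)).symm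
  rw [← h, LinearEquiv.symm_apply_apply]

theorem coT_nat {a b : NF} (φ : a ⟶ b) (m : M.obj b) :
    coT M e a (M.map φ m) =
      TM.smap (W := E.O) (κ := (ksG k A).κ (op b)) ((ksG k A).κ (op a)) (rg A φ) ((ksG k A).nat φ.op)
        (M.map φ) (M.map_smul φ) (coT M e b m) := by
  refine Eq.trans (e.nat φ m) ?_
  change (mapk (k := k) M φ).rTensor E.O ((e.co b).coact m) =
    TM.smap (W := E.O) (κ := (ksG k A).κ (op b)) ((ksG k A).κ (op a)) (rg A φ) ((ksG k A).nat φ.op)
        (M.map φ) (M.map_smul φ) ((e.co b).coact m)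
  generalize (e.co b).coact m = z
  induction z using TensorProduct.induction_on with
  | zero =>
    exact (map_zero ((mapk (k := k) M φ).rTensor E.O)).trans
      (map_zero (TM.smap (W := E.O) (κ := (ksG k A).κ (op b)) ((ksG k A).κ (op a)) (rg A φ)
      ((ksG k A).nat φ.op) (M.map φ) (M.map_smul φ))).symm
  | add x y hx hy =>
    exact (map_add ((mapk (k := k) M φ).rTensor E.O) x y).trans ((congrArg₂ (· + ·) hx hy).trans
      (map_add (TM.smap (W := E.O) (κ := (ksG k A).κ (op b)) ((ksG k A).κ (op a)) (rg A φ)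
      ((ksG k A).nat φ.op) (M.map φ) (M.map_smul φ)) x y).symm)
  | tmul n o =>
    exact (TM.smap_tm (W := E.O) ((ksG k A).κ (op a)) (rg A φ) ((ksG k A).nat φ.op) (M.map φ)
      (M.map_smul φ) n o).symm

end level

section obj

variable {E : Gp k} {P : Type u} [CommRing P] [Algebra (A.obj (op ⟨0⟩)) P]

/-- the structure map of an `SObj` -/
def ceA (X : SObj k A E P) : cm X ⟶ (GO (ksG k A) E.O).obj (cm X) :=
  ObjectProperty.homMk (K742.mkHom (M := (cm X).obj) (N := tensPobj (ksG k A) (cm X).obj E.O)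
    (fun Y => coT X.M X.e Y.unop) fun g m => coT_nat X.M X.e g.unop m)

theorem lv_ceA (X : SObj k A E P) (Y : NFᵒᵖ) (m : X.M.obj Y.unop) :
    K742.lv (ceA X).hom Y m = coT X.M X.e Y.unop m := rfl

/-- **the coalgebra of an `SObj`** -/
def ce (X : SObj k A E P) : (GO (ksG k A) E.O).Coalgebra where
  A := cm X
  a := ceA X
  counit := by
    apply ObjectProperty.hom_ext
    exact phom_ext fun Y m => eps_coT X.M X.e Y.unop m
  coassoc := by
    apply ObjectProperty.hom_ext
    exact phom_ext fun Y m => del_coT X.M X.e Y.unop m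

theorem map_equi (X X' : SObj k A E P) (f : X.Hom X') (a : NF) (z : X.M.obj a ⊗[k] E.O) :
    TM.map ((ksG k A).κ (op a)) (f.f a) (LinearMap.id : E.O →ₗ[k] E.O) z =
      (((f.f a).restrictScalars k).rTensor E.O z : X'.M.obj a ⊗[k] E.O) := by
  induction z using TensorProduct.induction_on with
  | zero =>
    exact (map_zero (TM.map ((ksG k A).κ (op a)) (f.f a) (LinearMap.id : E.O →ₗ[k] E.O))).trans
      (map_zero (((f.f a).restrictScalars k).rTensor E.O)).symm
  | add x y hx hy =>
    exact (map_add (TM.map ((ksG k A).κ (op a)) (f.f a) (LinearMap.id : E.O →ₗ[k] E.O)) x y).trans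
      ((congrArg₂ (· + ·) hx hy).trans (map_add (((f.f a).restrictScalars k).rTensor E.O) x y).symm)
  | tmul m o =>
    exact TM.map_tm ((ksG k A).κ (op a)) (f.f a) (LinearMap.id : E.O →ₗ[k] E.O) m o

/-- **the morphism of coalgebras of a morphism of `SObj`'s** -/
def ceHom {X X' : SObj k A E P} (f : X.Hom X') : ce X ⟶ ce X' where
  f := cmHom f
  h := by
    apply ObjectProperty.hom_ext
    refine phom_ext fun Y m => ?_
    exact (map_equi X X' f Y.unop ((X.e.co Y.unop).coact m)).trans (f.equi Y.unop m).symm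

theorem ce_A (X : SObj k A E P) : (ce X).A = cm X := rfl

theorem ceHom_f {X X' : SObj k A E P} (f : X.Hom X') : (ceHom f).f = cmHom f := rfl

theorem forget_ce (X : SObj k A E P) : (GO (ksG k A) E.O).forget.obj (ce X) = cm X := rfl

variable [hA : Fact (GR A)]

theorem ceHom_comp_zero [(GO (ksG k A) E.O).toFunctor.Additive] {X X' X'' : SObj k A E P} (f : X.Hom X')
    (g : X'.Hom X'') (h : ∀ m, g.f ⟨0⟩ (f.f ⟨0⟩ m) = 0) : ceHom f ≫ ceHom g = 0 := by
  apply Comonad.Coalgebra.Hom.ext
  exact cmHom_comp_zero f g h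

theorem isZero_ce [(GO (ksG k A) E.O).toFunctor.Additive] (X : SObj k A E P)
    (h : Subsingleton (X.M.obj ⟨0⟩)) : IsZero (ce X) := by
  rw [IsZero.iff_id_eq_zero]
  apply Comonad.Coalgebra.Hom.ext
  exact (IsZero.iff_id_eq_zero (cm X)).1 (isZero_cm X h)

section Cx

variable [(GO (ksG k A) E.O).toFunctor.Additive]
variable (K : ℤ → SObj k A E P) (d : ∀ n : ℤ, (K n).Hom (K (n + 1)))
  (dd : ∀ (n : ℤ) (m : (K n).M.obj ⟨0⟩), (d (n + 1)).f ⟨0⟩ ((d n).f ⟨0⟩ m) = 0)

/-- **the complex of coalgebras of a kernel datum** -/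
def ceCx : CochainComplex (GO (ksG k A) E.O).Coalgebra ℤ :=
  CochainComplex.of (fun n => ce (K n)) (fun n => ceHom (d n)) fun n => ceHom_comp_zero _ _ (dd n)

theorem ceCx_X (n : ℤ) : (ceCx K d dd).X n = ce (K n) := rfl

theorem ceCx_d (n : ℤ) : (ceCx K d dd).d n (n + 1) = ceHom (d n) :=
  CochainComplex.of_d (fun n => ce (K n)) (fun n => ceHom (d n)) n

/-- `forget (ceCx) ≅ cmCx`, identity in each degree -/
def forgetCeIso : ((GO (ksG k A) E.O).forget.mapHomologicalComplex (ComplexShape.up ℤ)).obj (ceCx K d dd) ≅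
    cmCx K d dd :=
  HomologicalComplex.Hom.isoOfComponents (fun n => Iso.refl (cm (K n))) (by
    intro i j hij
    have hij' : i + 1 = j := hij
    subst hij'
    have h1 : (cmCx K d dd).d i (i + 1) = cmHom (d i) :=
      CochainComplex.of_d (fun n => cm (K n)) (fun n => cmHom (d n)) i
    have h2 : (((GO (ksG k A) E.O).forget.mapHomologicalComplex (ComplexShape.up ℤ)).obj (ceCx K d dd)).d i (i + 1) =
      (GO (ksG k A) E.O).forget.map ((ceCx K d dd).d i (i + 1)) := rfl
    rw [h1, h2, ceCx_d]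
    exact (Category.id_comp _).trans (Category.comp_id _).symm)

/-- on the chart, `ceCx` is `chartCx` -/
def usForgetCe : (chartF A).usC.obj
    (((GO (ksG k A) E.O).forget.mapHomologicalComplex (ComplexShape.up ℤ)).obj (ceCx K d dd)) ≅ chartCx K d dd :=
  (chartF A).usC.mapIso (forgetCeIso K d dd) ≪≫ usCmCx K d dd

theorem isStrictlyGE_ceCx (a : ℤ) (h : ∀ n : ℤ, n < a → Subsingleton ((K n).M.obj ⟨0⟩)) :
    (ceCx K d dd).IsStrictlyGE a := by
  rw [CochainComplex.isStrictlyGE_iff]
  exact fun n hn => isZero_ce (K n) (h n hn)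

theorem isStrictlyLE_ceCx (b : ℤ) (h : ∀ n : ℤ, b < n → Subsingleton ((K n).M.obj ⟨0⟩)) :
    (ceCx K d dd).IsStrictlyLE b := by
  rw [CochainComplex.isStrictlyLE_iff]
  exact fun n hn => isZero_ce (K n) (h n hn)

theorem torGE_usC_ceCx {a : ℤ} (h : TorGE a (chartCx K d dd)) : TorGE a ((chartF A).usC.obj
    (((GO (ksG k A) E.O).forget.mapHomologicalComplex (ComplexShape.up ℤ)).obj (ceCx K d dd))) :=
  h.of_iso (usForgetCe K d dd).symm

end Cx

end obj

section kernel

variable [hA : Fact (GR A)] {x : PrimeSpectrum (A.obj (op ⟨0⟩))} {c : CoverDatum k A x} (K : KernelDatum c)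
  [(GO (ksG k A) K.E.O).toFunctor.Additive]

/-- the complex of coalgebras of a kernel datum -/
abbrev kerCx : CochainComplex (GO (ksG k A) K.E.O).Coalgebra ℤ := ceCx K.K K.d K.dd

theorem kerCx_ge : (kerCx K).IsStrictlyGE (-K.e : ℤ) :=
  isStrictlyGE_ceCx K.K K.d K.dd _ fun n hn => K.bdd n (Or.inl hn)

theorem kerCx_le : (kerCx K).IsStrictlyLE 0 :=
  isStrictlyLE_ceCx K.K K.d K.dd _ fun n hn => K.bdd n (Or.inr hn)

theorem kerCx_tor : TorGE (-K.e : ℤ) ((chartF A).usC.obj
    (((GO (ksG k A) K.E.O).forget.mapHomologicalComplex (ComplexShape.up ℤ)).obj (kerCx K))) :=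
  torGE_usC_ceCx K.K K.d K.dd K.tor

end kernel

end Groth.Agent.ResProp.EF.K83.CE
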